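import Groth.Prelude.Def_VecGrp
import Mathlib.AlgebraicGeometry.Morphisms.Flat
import Mathlib.AlgebraicGeometry.Morphisms.QuasiSeparated
import Mathlib.RingTheory.Localization.BaseChange
import Mathlib.LinearAlgebra.TensorProduct.Tower
import Mathlib.RingTheory.Flat.Stability

/-!
# Points of a scheme over an affine base given by affine opens; natural families on affine test schemes
-/

universe u

open CategoryTheory AlgebraicGeometry TopologicalSpace Opposite TensorProduct

namespace Groth.Agent.GModLib41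

set_option linter.style.haveILetI false
set_option backward.isDefEq.respectTransparency false

variable {R : Type u} [CommRing R] {G : Over (Spec (CommRingCat.of R))}

/-- The functions on an open as an algebra over the base. -/
noncomputable abbrev algU (U : G.left.Opens) : Algebra R Γ(G.left, U) :=
  ((Scheme.ΓSpecIso (CommRingCat.of R)).inv ≫ G.hom.appLE ⊤ U (show U ≤ G.hom ⁻¹ᵁ ⊤ from le_top)).hom.toAlgebra

theorem specMap_algU {U : G.left.Opens} (hU : IsAffineOpen U) :
    Spec.map ((Scheme.ΓSpecIso (CommRingCat.of R)).inv ≫ G.hom.appLE ⊤ U (show U ≤ G.hom ⁻¹ᵁ ⊤ from le_top)) = hU.fromSpec ≫ G.hom := by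
  have h := IsAffineOpen.SpecMap_appLE_fromSpec G.hom (isAffineOpen_top _) hU (le_top : U ≤ G.hom ⁻¹ᵁ ⊤)
  rw [IsAffineOpen.fromSpec_top] at h
  rw [Spec.map_comp, ← h]
  congr 1
  rw [← Scheme.isoSpec_Spec_inv]

/-- The point given by an affine open. -/
noncomputable def openPt {U : G.left.Opens} (hU : IsAffineOpen U) :
    letI := algU (G := G) U; VecGrp.pt R Γ(G.left, U) ⟶ G :=
  letI := algU (G := G) U
  Over.homMk hU.fromSpec (specMap_algU hU).symm

/-- Restriction to a smaller open as an algebra map. -/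
noncomputable def resAlg {U V : G.left.Opens} (h : V ≤ U) :
    letI := algU (G := G) U; letI := algU (G := G) V; Γ(G.left, U) →ₐ[R] Γ(G.left, V) :=
  letI := algU (G := G) U
  letI := algU (G := G) V
  AlgHom.mk (G.left.presheaf.map (homOfLE h).op).hom fun c => by
    show G.left.presheaf.map (homOfLE h).op (((Scheme.ΓSpecIso (CommRingCat.of R)).inv ≫ G.hom.appLE ⊤ U (show U ≤ G.hom ⁻¹ᵁ ⊤ from le_top)) c) = _
    rw [← CommRingCat.comp_apply, Category.assoc, Scheme.Hom.appLE_map]
    rfl

theorem ptMap_resAlg {U V : G.left.Opens} (hU : IsAffineOpen U) (hV : IsAffineOpen V) (h : V ≤ U) :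
    letI := algU (G := G) U; letI := algU (G := G) V; VecGrp.ptMap (resAlg h) ≫ openPt hU = openPt hV :=
  Over.OverMorphism.ext (hU.map_fromSpec hV (homOfLE h).op)

theorem flat_algU [Flat G.hom] {U : G.left.Opens} (hU : IsAffineOpen U) :
    letI := algU (G := G) U; Module.Flat R Γ(G.left, U) := by
  letI := algU (G := G) U
  have h1 : (G.hom.appLE ⊤ U (show U ≤ G.hom ⁻¹ᵁ ⊤ from le_top)).hom.Flat := Flat.flat_appLE G.hom (isAffineOpen_top _) hU le_top
  have h2 : ((Scheme.ΓSpecIso (CommRingCat.of R)).inv).hom.Flat :=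
    RingHom.Flat.of_bijective (ConcreteCategory.bijective_of_isIso _)
  exact h2.comp h1

theorem ptMap_comp {B B' B'' : Type u} [CommRing B] [Algebra R B] [CommRing B'] [Algebra R B'] [CommRing B'']
    [Algebra R B''] (φ : B →ₐ[R] B') (ψ : B' →ₐ[R] B'') :
    VecGrp.ptMap ψ ≫ VecGrp.ptMap φ = VecGrp.ptMap (ψ.comp φ) :=
  Over.OverMorphism.ext (by rw [Over.comp_left]; exact LieS.specMap_comp _ _)

/-- A point factors Zariski locally on the test scheme through the members of an affine cover. -/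
theorem span_factor_eq_top {ι : Type*} (U : ι → G.left.Opens) (hU : ∀ i, IsAffineOpen (U i)) (hcov : ⨆ i, U i = ⊤)
    {B : Type u} [CommRing B] [Algebra R B] (g : VecGrp.pt R B ⟶ G) :
    Ideal.span {r : B | ∃ (i : ι), letI := algU (G := G) (U i);
      ∃ ψ : Γ(G.left, U i) →ₐ[R] Localization.Away r,
        VecGrp.ptMap ψ ≫ openPt (hU i) = VecGrp.ptMap (IsScalarTower.toAlgHom R B (Localization.Away r)) ≫ g} = ⊤ := by
  rw [← PrimeSpectrum.zeroLocus_empty_iff_eq_top, PrimeSpectrum.zeroLocus_span, Set.eq_empty_iff_forall_notMem]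
  intro p hp
  obtain ⟨i, hi⟩ := Opens.mem_iSup.mp (hcov.ge (show g.left p ∈ (⊤ : G.left.Opens) from trivial))
  obtain ⟨_, ⟨r, rfl⟩, hr, hle⟩ := PrimeSpectrum.isTopologicalBasis_basic_opens.exists_subset_of_mem_open
    (show p ∈ ((g.left ⁻¹ᵁ (U i)).carrier : Set (PrimeSpectrum B)) from hi) (g.left ⁻¹ᵁ (U i)).isOpen
  refine hr (hp ⟨i, ?_⟩)
  letI := algU (G := G) (U i)
  let Br := Localization.Away r
  let h := VecGrp.ptMap (IsScalarTower.toAlgHom R B Br) ≫ g
  have hrange : Set.range h.left ⊆ Set.range (hU i).fromSpec := by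
    rw [(hU i).range_fromSpec]
    rintro _ ⟨q, rfl⟩
    refine hle ?_
    show (PrimeSpectrum.comap (algebraMap B Br) q) ∈ (PrimeSpectrum.basicOpen r : Set _)
    rw [← PrimeSpectrum.localization_away_comap_range Br r]
    exact ⟨q, rfl⟩
  haveI := (hU i).isOpenImmersion_fromSpec
  let q := Spec.preimage (IsOpenImmersion.lift (hU i).fromSpec h.left hrange)
  have hq : Spec.map q ≫ (hU i).fromSpec = h.left := by rw [Spec.map_preimage, IsOpenImmersion.lift_fac]
  refine ⟨AlgHom.mk q.hom fun a => ?_, Over.OverMorphism.ext hq⟩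
  have e : ((Scheme.ΓSpecIso (CommRingCat.of R)).inv ≫ G.hom.appLE ⊤ (U i) (show U i ≤ G.hom ⁻¹ᵁ ⊤ from le_top)) ≫ q =
      CommRingCat.ofHom (algebraMap R Br) := by
    apply Spec.map_injective
    rw [Spec.map_comp, specMap_algU (hU i)]
    rw [← Category.assoc, hq]
    exact Over.w h
  exact congr($e a)

/-- Elements of `B ⊗ Q` vanishing locally on `Spec B` vanish. -/
theorem eq_zero_of_locally {B : Type u} [CommRing B] [Algebra R B] {Q : Type u} [AddCommGroup Q] [Module R Q]
    (y : B ⊗[R] Q) {S : Set B} (hS : Ideal.span S = ⊤)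
    (h : ∀ r ∈ S, VecGrp.Wmap (M := Q) (IsScalarTower.toAlgHom R B (Localization.Away r)) y = 0) : y = 0 := by
  have key : ∀ r ∈ S, ∃ n : ℕ, r ^ n • y = 0 := by
    intro r hr
    let Br := Localization.Away r
    have h1 : ∀ z : B ⊗[R] Q, TensorProduct.AlgebraTensorModule.cancelBaseChange R B Br Br Q
        (TensorProduct.mk B Br (B ⊗[R] Q) 1 z) =
        VecGrp.Wmap (M := Q) (IsScalarTower.toAlgHom R B Br) z := by
      intro z
      induction z using TensorProduct.induction_on with
      | zero => simp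
      | tmul b x => simp [Algebra.smul_def]
      | add a b ha hb => simp only [map_add, ha, hb]
    have h2 : TensorProduct.mk B Br (B ⊗[R] Q) 1 y = 0 := by
      apply (TensorProduct.AlgebraTensorModule.cancelBaseChange R B Br Br Q).injective
      rw [h1, h r hr, map_zero]
    haveI : IsLocalizedModule (Submonoid.powers r) (TensorProduct.mk B Br (B ⊗[R] Q) 1) :=
      (isLocalizedModule_iff_isBaseChange (Submonoid.powers r) Br _).2 (TensorProduct.isBaseChange B (B ⊗[R] Q) Br)
    obtain ⟨⟨_, n, rfl⟩, hn⟩ := (IsLocalizedModule.eq_zero_iff (Submonoid.powers r) _).1 h2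
    exact ⟨n, hn⟩
  let I : Ideal B := LinearMap.ker (LinearMap.toSpanSingleton B (B ⊗[R] Q) y)
  have hI : I.radical = ⊤ := top_unique (hS ▸ Ideal.span_le.2 fun r hr => by
    obtain ⟨n, hn⟩ := key r hr
    exact ⟨n, by simpa [I] using hn⟩)
  rw [Ideal.radical_eq_top] at hI
  simpa [I] using (show (1 : B) ∈ I by rw [hI]; trivial)

/-- A natural family of elements vanishing at the members of an affine cover vanishes. -/
theorem family_eq_zero {Q : Type u} [AddCommGroup Q] [Module R Q]
    (F : ∀ (B : Type u) [CommRing B] [Algebra R B], (VecGrp.pt R B ⟶ G) → B ⊗[R] Q)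
    (hF : ∀ {B B' : Type u} [CommRing B] [Algebra R B] [CommRing B'] [Algebra R B'] (φ : B →ₐ[R] B')
      (g : VecGrp.pt R B ⟶ G), VecGrp.Wmap φ (F B g) = F B' (VecGrp.ptMap φ ≫ g))
    {ι : Type*} (U : ι → G.left.Opens) (hU : ∀ i, IsAffineOpen (U i)) (hcov : ⨆ i, U i = ⊤)
    (h0 : ∀ i, letI := algU (G := G) (U i); F _ (openPt (hU i)) = 0)
    (B : Type u) [CommRing B] [Algebra R B] (g : VecGrp.pt R B ⟶ G) : F B g = 0 := by
  refine eq_zero_of_locally _ (span_factor_eq_top U hU hcov g) ?_
  rintro r ⟨i, ψ, hψ⟩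
  letI := algU (G := G) (U i)
  rw [hF, ← hψ, ← hF, h0 i, map_zero]

theorem exists_finite_affine_cover [QuasiCompact G.hom] :
    ∃ (s : Finset G.left.affineOpens), ⨆ i : s, (i.1.1 : G.left.Opens) = ⊤ := by
  haveI : CompactSpace G.left := (quasiCompact_iff_compactSpace G.hom).mp inferInstance
  obtain ⟨s, hs⟩ := isCompact_univ.elim_finite_subcover (fun i : G.left.affineOpens => (i.1 : Set G.left))
    (fun i => i.1.isOpen) (fun x _ => by
      obtain ⟨U, hU, hx, -⟩ := exists_isAffineOpen_mem_and_subset (x := x) (U := (⊤ : G.left.Opens)) trivial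
      exact Set.mem_iUnion.2 ⟨⟨U, hU⟩, hx⟩)
  refine ⟨s, top_unique fun x _ => ?_⟩
  obtain ⟨i, hi, hx⟩ := Set.mem_iUnion₂.1 (hs (Set.mem_univ x))
  exact Opens.mem_iSup.2 ⟨⟨i, hi⟩, hx⟩

/-- The right factor in a submodule, read through the quotient. -/
theorem mem_range_baseChange_iff {E : Type u} [AddCommGroup E] [Module R E] (N : Submodule R E)
    {B : Type u} [CommRing B] [Algebra R B] (y : B ⊗[R] E) :
    y ∈ LinearMap.range (N.subtype.baseChange B) ↔ N.mkQ.lTensor B y = 0 := by
  have h := lTensor_exact B (LinearMap.exact_subtype_mkQ N) (Submodule.mkQ_surjective N) y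
  have e : ∀ z, N.subtype.baseChange B z = N.subtype.lTensor B z := fun z => by
    induction z using TensorProduct.induction_on with
    | zero => simp
    | tmul b x => simp
    | add a b ha hb => simp only [map_add, ha, hb]
  rw [h]
  exact ⟨fun ⟨z, hz⟩ => ⟨z, (e z).symm.trans hz⟩, fun ⟨z, hz⟩ => ⟨z, (e z).trans hz⟩⟩

theorem Wmap_lTensor {E Q : Type u} [AddCommGroup E] [Module R E] [AddCommGroup Q] [Module R Q] (f : E →ₗ[R] Q)
    {B B' : Type u} [CommRing B] [Algebra R B] [CommRing B'] [Algebra R B'] (φ : B →ₐ[R] B') (y : B ⊗[R] E) :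
    VecGrp.Wmap φ (f.lTensor B y) = f.lTensor B' (VecGrp.Wmap φ y) := by
  induction y using TensorProduct.induction_on with
  | zero => simp
  | tmul b x => simp
  | add a b ha hb => simp only [map_add, ha, hb]

end Groth.Agent.GModLib41
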