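import Groth.Agent.GModLib41.Cover

/-!
# Finitely generated stable submodules of a module with an action, over a noetherian ring
-/

universe u

open CategoryTheory AlgebraicGeometry TopologicalSpace Opposite TensorProduct MonObj

namespace Groth.Agent.GModLib41

set_option linter.style.haveILetI false

variable {R : Type u} [CommRing R] {G : Over (Spec (CommRingCat.of R))} [GrpObj G]
  {E : Type u} [AddCommGroup E] [Module R E] (m : VecGrp.GMod G E)

theorem ρ_assoc {B B' : Type u} [CommRing B] [Algebra R B] [CommRing B'] [Algebra R B'] (h : VecGrp.pt R B' ⟶ G)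
    (L : E →ₗ[R] B' ⊗[R] E) (hL : ∀ e, L e = m.ρ B' h ((1 : B') ⊗ₜ[R] e)) (y : B ⊗[R] E) :
    (TensorProduct.assoc R B B' E).symm (L.lTensor B y) =
      m.ρ (B ⊗[R] B') (VecGrp.ptMap Algebra.TensorProduct.includeRight ≫ h)
        (VecGrp.Wmap Algebra.TensorProduct.includeLeft y) := by
  induction y using TensorProduct.induction_on with
  | zero => simp
  | add a b ha hb => simp only [map_add, ha, hb]
  | tmul b e =>
    rw [LinearMap.lTensor_tmul, hL, VecGrp.Wmap_tmul]
    have hsm : (Algebra.TensorProduct.includeLeft : B →ₐ[R] B ⊗[R] B') b ⊗ₜ[R] e =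
        ((Algebra.TensorProduct.includeLeft : B →ₐ[R] B ⊗[R] B') b) •
          VecGrp.Wmap Algebra.TensorProduct.includeRight ((1 : B') ⊗ₜ[R] e) := by
      simp [TensorProduct.smul_tmul', ← Algebra.TensorProduct.one_def]
    rw [hsm, LinearEquiv.map_smul, ← m.naturality]
    generalize m.ρ B' h ((1 : B') ⊗ₜ[R] e) = z
    induction z using TensorProduct.induction_on with
    | zero => simp
    | add p q hp hq => simp only [TensorProduct.tmul_add, map_add, smul_add, hp, hq]
    | tmul p q => simp [TensorProduct.smul_tmul']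

/-- The value of the action on `x` at every point, modulo a submodule, as a natural family. -/
theorem natural_mkQ (N : Submodule R E) (x : E) {B B' : Type u} [CommRing B] [Algebra R B] [CommRing B']
    [Algebra R B'] (φ : B →ₐ[R] B') (g : VecGrp.pt R B ⟶ G) :
    VecGrp.Wmap φ (N.mkQ.lTensor B (m.ρ B g ((1 : B) ⊗ₜ[R] x))) =
      N.mkQ.lTensor B' (m.ρ B' (VecGrp.ptMap φ ≫ g) ((1 : B') ⊗ₜ[R] x)) := by
  rw [Wmap_lTensor, m.naturality, VecGrp.Wmap_tmul, map_one]

/-- The core of the argument: on a flat test algebra the point moves `x` inside the stable part. -/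
theorem mkQ_ρ_eq_zero {J : Type u} [Fintype J] [DecidableEq J] {Bj : J → Type u} [∀ j, CommRing (Bj j)] [∀ j, Algebra R (Bj j)]
    (h : ∀ j, VecGrp.pt R (Bj j) ⟶ G) (L : ∀ j, E →ₗ[R] Bj j ⊗[R] E)
    (hL : ∀ j e, L j e = m.ρ _ (h j) ((1 : Bj j) ⊗ₜ[R] e)) (N₀ : Submodule R E)
    {B : Type u} [CommRing B] [Algebra R B] [Module.Flat R B] (g : VecGrp.pt R B ⟶ G) (x : E)
    (hx : ∀ (B' : Type u) [CommRing B'] [Algebra R B'] (g' : VecGrp.pt R B' ⟶ G),
      N₀.mkQ.lTensor B' (m.ρ B' g' ((1 : B') ⊗ₜ[R] x)) = 0)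
    (N : Submodule R E) (hN : N = N₀ ⊓ ⨅ j, LinearMap.ker (N₀.mkQ.lTensor (Bj j) ∘ₗ L j)) :
    N.mkQ.lTensor B (m.ρ B g ((1 : B) ⊗ₜ[R] x)) = 0 := by
  let θ : E →ₗ[R] (E ⧸ N₀) × (∀ j : J, Bj j ⊗[R] (E ⧸ N₀)) :=
    N₀.mkQ.prod (LinearMap.pi fun j => N₀.mkQ.lTensor (Bj j) ∘ₗ L j)
  have hker : LinearMap.ker θ = N := by
    rw [hN, LinearMap.ker_prod, Submodule.ker_mkQ, LinearMap.ker_pi]
  have hex : Function.Exact N.subtype θ := by
    rw [← hker]; exact LinearMap.exact_subtype_ker_map θ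
  set y := m.ρ B g ((1 : B) ⊗ₜ[R] x) with hy
  have hcomp : ∀ j, (N₀.mkQ.lTensor (Bj j) ∘ₗ L j).lTensor B y = 0 := by
    intro j
    rw [LinearMap.lTensor_comp, LinearMap.comp_apply]
    apply (TensorProduct.assoc R B (Bj j) (E ⧸ N₀)).symm.injective
    rw [map_zero]
    have h2 : ∀ w : B ⊗[R] (Bj j ⊗[R] E), (TensorProduct.assoc R B (Bj j) (E ⧸ N₀)).symm
        ((N₀.mkQ.lTensor (Bj j)).lTensor B w) =
        N₀.mkQ.lTensor _ ((TensorProduct.assoc R B (Bj j) E).symm w) := by
      intro w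
      induction w using TensorProduct.induction_on with
      | zero => simp
      | add p q hp hq => simp only [map_add, hp, hq]
      | tmul p q =>
        induction q using TensorProduct.induction_on with
        | zero => simp
        | add a b ha hb => simp only [TensorProduct.tmul_add, map_add, ha, hb]
        | tmul a b => simp
    rw [h2, ρ_assoc m (h j) (L j) (hL j), hy, m.naturality, VecGrp.Wmap_tmul, map_one]
    have h3 := hx _ ((VecGrp.ptMap (Algebra.TensorProduct.includeRight : Bj j →ₐ[R] B ⊗[R] Bj j) ≫ h j) *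
      (VecGrp.ptMap (Algebra.TensorProduct.includeLeft : B →ₐ[R] B ⊗[R] Bj j) ≫ g))
    rw [map_mul, LinearEquiv.mul_apply] at h3
    exact h3
  have h0 : θ.lTensor B y = 0 := by
    apply (TensorProduct.prodRight R R B _ _).injective
    rw [map_zero]
    refine Prod.ext ?_ ?_
    · refine Eq.trans ?_ (hx B g)
      rw [← hy]
      generalize y = w
      induction w using TensorProduct.induction_on with
      | zero => simp
      | add p q hp hq => simp only [map_add, Prod.fst_add, hp, hq]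
      | tmul p q => simp [θ]
    · apply (TensorProduct.piRight R R B _).injective
      rw [Prod.snd_zero, map_zero]
      funext j
      refine Eq.trans ?_ (hcomp j)
      generalize y = w
      induction w using TensorProduct.induction_on with
      | zero => simp
      | add p q hp hq => simp only [map_add, Prod.snd_add, Pi.add_apply, hp, hq]
      | tmul p q => simp [θ]
  obtain ⟨w, hw⟩ := ((Module.Flat.lTensor_exact B hex) _).1 h0
  rw [← hw, ← LinearMap.comp_apply, ← LinearMap.lTensor_comp,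
    show N.mkQ ∘ₗ N.subtype = 0 from LinearMap.ext fun z => (Submodule.Quotient.mk_eq_zero N).2 z.2,
    LinearMap.lTensor_zero, LinearMap.zero_apply]

theorem exists_stable_fg [IsNoetherianRing R] [Flat G.hom] [QuasiCompact G.hom] (M : Submodule R E) (hM : M.FG) :
    ∃ N : Submodule R E, M ≤ N ∧ N.FG ∧
      ∀ (B : Type u) [CommRing B] [Algebra R B] (g : VecGrp.pt R B ⟶ G) (x : E), x ∈ N →
        m.ρ B g ((1 : B) ⊗ₜ[R] x) ∈ LinearMap.range (N.subtype.baseChange B) := by
  classical
  obtain ⟨s, hcov⟩ := exists_finite_affine_cover (G := G)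
  let U : s → G.left.Opens := fun i => i.1.1
  have hU : ∀ i, IsAffineOpen (U i) := fun i => i.1.2
  let L : ∀ i : s, letI := algU (G := G) (U i); E →ₗ[R] Γ(G.left, U i) ⊗[R] E := fun i =>
    letI := algU (G := G) (U i)
    (m.ρ _ (openPt (hU i))).toLinearMap.restrictScalars R ∘ₗ TensorProduct.mk R Γ(G.left, U i) E 1
  have hL : ∀ (i : s) (e : E), letI := algU (G := G) (U i);
      L i e = m.ρ _ (openPt (hU i)) ((1 : Γ(G.left, U i)) ⊗ₜ[R] e) := fun i e => rfl
  obtain ⟨S, hS⟩ := hM
  choose Z hZ using fun (i : s) (x : E) => letI := algU (G := G) (U i); TensorProduct.exists_finset (L i x)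
  let T : Finset E := S ∪ (Finset.univ ×ˢ S).biUnion (fun p => (Z p.1 p.2).image Prod.snd)
  let N₀ : Submodule R E := Submodule.span R (T : Set E)
  let Ψ : ∀ i : s, letI := algU (G := G) (U i); E →ₗ[R] Γ(G.left, U i) ⊗[R] (E ⧸ N₀) := fun i =>
    letI := algU (G := G) (U i)
    N₀.mkQ.lTensor _ ∘ₗ L i
  let N : Submodule R E := N₀ ⊓ ⨅ i : s, (letI := algU (G := G) (U i); LinearMap.ker (Ψ i))
  have stepA : ∀ x ∈ N, ∀ (B : Type u) [CommRing B] [Algebra R B] (g : VecGrp.pt R B ⟶ G),
      N₀.mkQ.lTensor B (m.ρ B g ((1 : B) ⊗ₜ[R] x)) = 0 := by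
    intro x hx B _ _ g
    refine family_eq_zero (fun B _ _ g => N₀.mkQ.lTensor B (m.ρ B g ((1 : B) ⊗ₜ[R] x)))
      (fun φ g => natural_mkQ m N₀ x φ g) U hU hcov (fun i => ?_) B g
    exact Submodule.mem_iInf _ |>.1 hx.2 i
  have stepB : ∀ x ∈ N, ∀ i, letI := algU (G := G) (U i); N.mkQ.lTensor _ (L i x) = 0 := by
    intro x hx i
    letI := algU (G := G) (U i)
    haveI : Module.Flat R Γ(G.left, U i) := flat_algU (hU i)
    letI algs : ∀ j : s, Algebra R Γ(G.left, U j) := fun j => algU (G := G) (U j)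
    exact mkQ_ρ_eq_zero (Bj := fun j : s => ↑Γ(G.left, U j)) m
      (h := fun j => openPt (hU j)) L hL N₀ (openPt (hU i)) x (stepA x hx) N rfl
  refine ⟨N, ?_, ?_, fun B _ _ g x hx => (mem_range_baseChange_iff N _).2 ?_⟩
  · rw [← hS, Submodule.span_le]
    intro x hx
    refine ⟨Submodule.subset_span (Finset.mem_union_left _ hx), Submodule.mem_iInf _ |>.2 fun i => ?_⟩
    letI := algU (G := G) (U i)
    show N₀.mkQ.lTensor _ (L i x) = 0
    rw [hZ i x, map_sum]
    refine Finset.sum_eq_zero fun q hq => ?_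
    have hq' : q.2 ∈ N₀ := Submodule.subset_span (Finset.mem_union_right _
      (Finset.mem_biUnion.2 ⟨(i, x), Finset.mem_product.2 ⟨Finset.mem_univ _, hx⟩, Finset.mem_image_of_mem _ hq⟩))
    rw [LinearMap.lTensor_tmul, show N₀.mkQ q.2 = 0 from (Submodule.Quotient.mk_eq_zero N₀).2 hq',
      TensorProduct.tmul_zero]
  · haveI : Module.Finite R N₀ := Module.Finite.iff_fg.mpr ⟨_, rfl⟩
    have hle : N ≤ N₀ := inf_le_left
    have hfg : (N.comap N₀.subtype).FG := IsNoetherian.noetherian _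
    have := hfg.map N₀.subtype
    rwa [Submodule.map_comap_subtype, inf_eq_right.mpr hle] at this
  · exact family_eq_zero (fun B _ _ g => N.mkQ.lTensor B (m.ρ B g ((1 : B) ⊗ₜ[R] x)))
      (fun φ g => natural_mkQ m N x φ g) U hU hcov (fun i => stepB x hx i) B g

end Groth.Agent.GModLib41
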