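import Groth.Agent.GModLib41.Global
import Groth.Agent.GModLib41.Noeth
import Mathlib.Algebra.Module.Projective
import Mathlib.LinearAlgebra.Finsupp.LinearCombination

/-!
# Finitely generated stable submodules of a flat module, when the global functions are projective
-/

universe u

open CategoryTheory AlgebraicGeometry TopologicalSpace Opposite TensorProduct MonObj

namespace Groth.Agent.GModLib41

set_option linter.style.haveILetI false
set_option backward.isDefEq.respectTransparency false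

variable {R : Type u} [CommRing R] {G : Over (Spec (CommRingCat.of R))} [GrpObj G]
  [QuasiCompact G.hom] [QuasiSeparated G.hom]
  {E : Type u} [AddCommGroup E] [Module R E] [Module.Flat R E] (m : VecGrp.GMod G E)

/-- The coaction: the global function with values in `E` giving the action on `x`. -/
theorem exists_coact (x : E) :
    letI := algTop (G := G)
    ∃ z : Γ(G.left, ⊤) ⊗[R] E, ∀ (B : Type u) [CommRing B] [Algebra R B] (g : VecGrp.pt R B ⟶ G),
      (pullFn g).toLinearMap.rTensor E z = m.ρ B g ((1 : B) ⊗ₜ[R] x) :=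
  (existsUnique_repr (fun B _ _ g => m.ρ B g ((1 : B) ⊗ₜ[R] x)) fun φ g => by
    rw [m.naturality, VecGrp.Wmap_tmul, map_one]).exists

/-- The translate of a global function by a point with flat coefficients. -/
theorem exists_translate {B₀ : Type u} [CommRing B₀] [Algebra R B₀] [Module.Flat R B₀] (g₀ : VecGrp.pt R B₀ ⟶ G) :
    letI := algTop (G := G)
    ∃ τ : Γ(G.left, ⊤) →ₗ[R] Γ(G.left, ⊤) ⊗[R] B₀, ∀ (B : Type u) [CommRing B] [Algebra R B]
      (h : VecGrp.pt R B ⟶ G) (a : Γ(G.left, ⊤)), (pullFn h).toLinearMap.rTensor B₀ (τ a) =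
        pullFn ((VecGrp.ptMap (Algebra.TensorProduct.includeRight : B₀ →ₐ[R] B ⊗[R] B₀) ≫ g₀) *
          (VecGrp.ptMap (Algebra.TensorProduct.includeLeft : B →ₐ[R] B ⊗[R] B₀) ≫ h)) a := by
  letI := algTop (G := G)
  let F : ∀ (a : Γ(G.left, ⊤)) (B : Type u) [CommRing B] [Algebra R B], (VecGrp.pt R B ⟶ G) → B ⊗[R] B₀ :=
    fun a B _ _ h => pullFn ((VecGrp.ptMap (Algebra.TensorProduct.includeRight : B₀ →ₐ[R] B ⊗[R] B₀) ≫ g₀) *
          (VecGrp.ptMap (Algebra.TensorProduct.includeLeft : B →ₐ[R] B ⊗[R] B₀) ≫ h)) a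
  have hF : ∀ (a : Γ(G.left, ⊤)) {B B' : Type u} [CommRing B] [Algebra R B] [CommRing B'] [Algebra R B']
      (φ : B →ₐ[R] B') (h : VecGrp.pt R B ⟶ G), VecGrp.Wmap φ (F a B h) = F a B' (VecGrp.ptMap φ ≫ h) := by
    intro a B B' _ _ _ _ φ h
    let Φ : B ⊗[R] B₀ →ₐ[R] B' ⊗[R] B₀ := Algebra.TensorProduct.map φ (AlgHom.id R B₀)
    have e : ∀ y : B ⊗[R] B₀, VecGrp.Wmap (M := B₀) φ y = Φ y := fun y => by
      induction y using TensorProduct.induction_on with
      | zero => simp
      | tmul p q => simp [Φ]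
      | add p q hp hq => simp only [map_add, hp, hq]
    rw [e]
    show (Φ.comp (pullFn _)) a = _
    rw [← pullFn_ptMap, MonObj.comp_mul, ← Category.assoc, ← Category.assoc, ptMap_comp, ptMap_comp]
    have e1 : Φ.comp Algebra.TensorProduct.includeRight = Algebra.TensorProduct.includeRight :=
      AlgHom.ext fun q => by simp [Φ]
    have e2 : Φ.comp Algebra.TensorProduct.includeLeft = Algebra.TensorProduct.includeLeft.comp φ :=
      AlgHom.ext fun q => by simp [Φ]
    rw [e1, e2, ← ptMap_comp, Category.assoc]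
  choose τ hτ huniq using fun a => existsUnique_repr (E := B₀) (F a) (hF a)
  refine ⟨{ toFun := τ, map_add' := fun a a' => ?_, map_smul' := fun r a => ?_ }, fun B _ _ h a => hτ a B h⟩
  · refine (huniq (a + a') _ fun B _ _ h => ?_).symm
    rw [map_add, hτ, hτ]
    exact (map_add (pullFn _) a a').symm
  · refine (huniq (r • a) _ fun B _ _ h => ?_).symm
    rw [RingHom.id_apply, map_smul, hτ]
    exact (map_smul (pullFn _) r a).symm

theorem lTensor_coact {B₀ : Type u} [CommRing B₀] [Algebra R B₀] [Module.Flat R B₀] (g₀ : VecGrp.pt R B₀ ⟶ G)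
    (L : E →ₗ[R] B₀ ⊗[R] E) (hL : ∀ e, L e = m.ρ _ g₀ ((1 : B₀) ⊗ₜ[R] e)) (x : E) :
    letI := algTop (G := G)
    ∀ (w : Γ(G.left, ⊤) ⊗[R] E), (∀ (B : Type u) [CommRing B] [Algebra R B] (g : VecGrp.pt R B ⟶ G),
      (pullFn g).toLinearMap.rTensor E w = m.ρ B g ((1 : B) ⊗ₜ[R] x)) →
    ∀ (τ : Γ(G.left, ⊤) →ₗ[R] Γ(G.left, ⊤) ⊗[R] B₀), (∀ (B : Type u) [CommRing B] [Algebra R B]
      (h : VecGrp.pt R B ⟶ G) (a : Γ(G.left, ⊤)), (pullFn h).toLinearMap.rTensor B₀ (τ a) =
        pullFn ((VecGrp.ptMap (Algebra.TensorProduct.includeRight : B₀ →ₐ[R] B ⊗[R] B₀) ≫ g₀) *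
          (VecGrp.ptMap (Algebra.TensorProduct.includeLeft : B →ₐ[R] B ⊗[R] B₀) ≫ h)) a) →
    L.lTensor Γ(G.left, ⊤) w = TensorProduct.assoc R Γ(G.left, ⊤) B₀ E (τ.rTensor E w) := by
  letI := algTop (G := G)
  intro w hz τ hτ
  refine (existsUnique_repr (E := B₀ ⊗[R] E) (fun B _ _ h => TensorProduct.assoc R B B₀ E
    (m.ρ (B ⊗[R] B₀) ((VecGrp.ptMap Algebra.TensorProduct.includeRight ≫ g₀) *
      (VecGrp.ptMap Algebra.TensorProduct.includeLeft ≫ h)) ((1 : B ⊗[R] B₀) ⊗ₜ[R] x)))
    (fun {B B'} _ _ _ _ φ h => ?_)).unique (fun B _ _ h => ?_) (fun B _ _ h => ?_)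
  · let Φ : B ⊗[R] B₀ →ₐ[R] B' ⊗[R] B₀ := Algebra.TensorProduct.map φ (AlgHom.id R B₀)
    have e : ∀ y : (B ⊗[R] B₀) ⊗[R] E, VecGrp.Wmap (M := B₀ ⊗[R] E) φ (TensorProduct.assoc R B B₀ E y) =
        TensorProduct.assoc R B' B₀ E (VecGrp.Wmap (M := E) Φ y) := fun y => by
      induction y using TensorProduct.induction_on with
      | zero => simp
      | add p q hp hq => simp only [map_add, hp, hq]
      | tmul p q =>
        induction p using TensorProduct.induction_on with
        | zero => simp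
        | add a b ha hb => simp only [TensorProduct.add_tmul, map_add, ha, hb]
        | tmul a b => simp [Φ]
    rw [e, m.naturality, VecGrp.Wmap_tmul, map_one, MonObj.comp_mul, ← Category.assoc, ← Category.assoc,
      ptMap_comp, ptMap_comp]
    have e1 : Φ.comp Algebra.TensorProduct.includeRight = Algebra.TensorProduct.includeRight :=
      AlgHom.ext fun q => by simp [Φ]
    have e2 : Φ.comp Algebra.TensorProduct.includeLeft = Algebra.TensorProduct.includeLeft.comp φ :=
      AlgHom.ext fun q => by simp [Φ]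
    rw [e1, e2, ← ptMap_comp, Category.assoc]
  · rw [← LinearMap.comp_apply, LinearMap.rTensor_comp_lTensor, ← LinearMap.lTensor_comp_rTensor,
      LinearMap.comp_apply, hz]
    apply (TensorProduct.assoc R B B₀ E).symm.injective
    rw [ρ_assoc m g₀ L hL, m.naturality, VecGrp.Wmap_tmul, map_one, LinearEquiv.symm_apply_apply, map_mul]
    rfl
  · rw [← hz]
    generalize hw' : w = w'
    clear hw'
    revert w'
    intro w
    induction w using TensorProduct.induction_on with
    | zero => simp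
    | add p q hp hq => simp only [map_add, hp, hq]
    | tmul p q =>
      rw [LinearMap.rTensor_tmul, LinearMap.rTensor_tmul, AlgHom.toLinearMap_apply, ← hτ B h p]
      generalize τ p = v
      induction v using TensorProduct.induction_on with
      | zero => simp
      | add a b ha hb => simp only [TensorProduct.add_tmul, map_add, ha, hb]
      | tmul a b => simp

theorem mkQ_coord_eq_zero {B₀ : Type u} [CommRing B₀] [Algebra R B₀] [Module.Flat R B₀] (g₀ : VecGrp.pt R B₀ ⟶ G) :
    letI := algTop (G := G)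
    ∀ (p : Γ(G.left, ⊤) →ₗ[R] (Γ(G.left, ⊤) →₀ R)) (S : Finset E) (z : E → Γ(G.left, ⊤) ⊗[R] E),
    (∀ (x : E) (B : Type u) [CommRing B] [Algebra R B] (g : VecGrp.pt R B ⟶ G),
      (pullFn g).toLinearMap.rTensor E (z x) = m.ρ B g ((1 : B) ⊗ₜ[R] x)) →
    ∀ (T : Γ(G.left, ⊤) ⊗[R] E → Finset Γ(G.left, ⊤)),
    (∀ w, w = ∑ jj ∈ T w, jj ⊗ₜ[R] (((TensorProduct.lid R E).toLinearMap ∘ₗ
        (Finsupp.lapply jj ∘ₗ p).rTensor E) w)) →
    ∀ (N : Submodule R E) (gens : Finset E) [DecidableEq E],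
    gens = S.biUnion (fun x => (T (z x)).image fun jj => ((TensorProduct.lid R E).toLinearMap ∘ₗ
        (Finsupp.lapply jj ∘ₗ p).rTensor E) (z x)) →
    (∀ x ∈ S, ∀ jj ∈ T (z x), ((TensorProduct.lid R E).toLinearMap ∘ₗ
        (Finsupp.lapply jj ∘ₗ p).rTensor E) (z x) ∈ N) →
    ∀ e ∈ Submodule.span R (gens : Set E), N.mkQ.lTensor B₀ (m.ρ B₀ g₀ ((1 : B₀) ⊗ₜ[R] e)) = 0 := by
  letI := algTop (G := G)
  intro p S z hz T hT N gens _ hgens hN e he
  subst hgens
  let A := Γ(G.left, ⊤)
  obtain ⟨τ, hτ⟩ := exists_translate (B₀ := B₀) g₀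
  let L : E →ₗ[R] B₀ ⊗[R] E := (m.ρ _ g₀).toLinearMap.restrictScalars R ∘ₗ TensorProduct.mk R B₀ E 1
  have hL : ∀ e, L e = m.ρ _ g₀ ((1 : B₀) ⊗ₜ[R] e) := fun e => rfl
  have key : ∀ x, L.lTensor Γ(G.left, ⊤) (z x) = TensorProduct.assoc R _ B₀ E (τ.rTensor E (z x)) := fun x =>
    lTensor_coact m g₀ L hL x (z x) (hz x) τ hτ
  let crd : Γ(G.left, ⊤) → (Γ(G.left, ⊤) →ₗ[R] R) := fun jj => Finsupp.lapply jj ∘ₗ p
  let co : (Γ(G.left, ⊤) →ₗ[R] R) → Γ(G.left, ⊤) ⊗[R] E →ₗ[R] E :=
    fun φ => (TensorProduct.lid R E).toLinearMap ∘ₗ φ.rTensor E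
  show N.mkQ.lTensor B₀ (L e) = 0
  induction he using Submodule.span_induction with
  | zero => simp
  | add a b _ _ ha hb => simp only [map_add, ha, hb, add_zero]
  | smul r a _ ha => simp only [map_smul, ha, smul_zero]
  | mem e he =>
    obtain ⟨x, hx, hxe⟩ := Finset.mem_biUnion.1 he
    obtain ⟨jj, -, rfl⟩ := Finset.mem_image.1 hxe
    have h3 : ∀ w : A ⊗[R] E, L (co (crd jj) w) =
        TensorProduct.lid R _ ((crd jj).rTensor (B₀ ⊗[R] E) (L.lTensor A w)) := by
      intro w
      induction w using TensorProduct.induction_on with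
      | zero => simp
      | add p q hp hq => simp only [map_add, hp, hq]
      | tmul p q => simp [co]
    rw [h3, key, hT (z x)]
    simp only [map_sum]
    refine Finset.sum_eq_zero fun κ hκ => ?_
    rw [LinearMap.rTensor_tmul]
    have hc : N.mkQ (co (crd κ) (z x)) = 0 := (Submodule.Quotient.mk_eq_zero N).2 (hN x hx κ hκ)
    generalize τ κ = v
    induction v using TensorProduct.induction_on with
    | zero => simp
    | add a b ha hb => simp only [TensorProduct.add_tmul, map_add, ha, hb, add_zero]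
    | tmul a b =>
      simp only [co, crd, Submodule.mkQ_apply, LinearMap.comp_apply, LinearEquiv.coe_coe] at hc
      simp [hc, co, crd, TensorProduct.smul_tmul']


theorem exists_stable_fg_flat [Flat G.hom]
    (hA : letI := algTop (G := G); Module.Projective R Γ(G.left, ⊤)) (M : Submodule R E) (hM : M.FG) :
    ∃ N : Submodule R E, M ≤ N ∧ N.FG ∧
      ∀ (B : Type u) [CommRing B] [Algebra R B] (g : VecGrp.pt R B ⟶ G) (x : E), x ∈ N →
        m.ρ B g ((1 : B) ⊗ₜ[R] x) ∈ LinearMap.range (N.subtype.baseChange B) := by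
  classical
  letI := algTop (G := G)
  let A := Γ(G.left, ⊤)
  obtain ⟨p, hp⟩ := Module.projective_def'.1 hA
  obtain ⟨S, hS⟩ := hM
  choose z hz using exists_coact m
  let crd : A → (A →ₗ[R] R) := fun jj => Finsupp.lapply jj ∘ₗ p
  let co : (A →ₗ[R] R) → A ⊗[R] E →ₗ[R] E := fun φ => (TensorProduct.lid R E).toLinearMap ∘ₗ φ.rTensor E
  -- finitely many coordinates of each element are nonzero
  have hfin : ∀ w : A ⊗[R] E, ∃ T : Finset A, w = ∑ jj ∈ T, jj ⊗ₜ[R] co (crd jj) w := by
    intro w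
    obtain ⟨P, hP⟩ := TensorProduct.exists_finset w
    refine ⟨P.biUnion fun q => (p q.1).support, ?_⟩
    conv_lhs => rw [hP]
    conv_rhs => rw [hP]
    simp only [map_sum, TensorProduct.tmul_sum]
    rw [Finset.sum_comm]
    refine Finset.sum_congr rfl fun q hq => ?_
    have h1 : q.1 = ∑ jj ∈ P.biUnion (fun q => (p q.1).support), (p q.1 jj) • jj := by
      have h2 := LinearMap.congr_fun hp q.1
      rw [LinearMap.comp_apply, LinearMap.id_apply, Finsupp.linearCombination_apply] at h2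
      conv_lhs => rw [← h2]
      exact Finset.sum_subset (Finset.subset_biUnion_of_mem (fun q => (p q.1).support) hq)
        fun jj _ hjj => by simp [Finsupp.notMem_support_iff.1 hjj]
    conv_lhs => rw [h1, TensorProduct.sum_tmul]
    refine Finset.sum_congr rfl fun jj _ => ?_
    simp [co, crd, TensorProduct.smul_tmul]
    rfl
  choose T hT using hfin
  let gens : Finset E := S.biUnion fun x => (T (z x)).image fun jj => co (crd jj) (z x)
  let N : Submodule R E := Submodule.span R (gens : Set E)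
  have hN : ∀ x ∈ S, ∀ jj ∈ T (z x), co (crd jj) (z x) ∈ N := fun x hx jj hjj =>
    Submodule.subset_span (Finset.mem_biUnion.2 ⟨x, hx, Finset.mem_image_of_mem _ hjj⟩)
  refine ⟨N, ?_, ⟨gens, rfl⟩, fun B _ _ g e he => (mem_range_baseChange_iff N _).2 ?_⟩
  · rw [← hS, Submodule.span_le]
    intro x hx
    have h1 := hz x R 1
    rw [map_one, LinearEquiv.coe_one, id_eq, hT (z x), map_sum] at h1
    have h2 := congrArg (TensorProduct.lid R E) h1
    rw [map_sum, TensorProduct.lid_tmul, one_smul] at h2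
    rw [SetLike.mem_coe, ← h2]
    exact Submodule.sum_mem _ fun jj hjj => by
      rw [LinearMap.rTensor_tmul, TensorProduct.lid_tmul]
      exact Submodule.smul_mem _ _ (hN x hx jj hjj)
  obtain ⟨s, hcov⟩ := exists_finite_affine_cover (G := G)
  refine family_eq_zero (fun B _ _ g => N.mkQ.lTensor B (m.ρ B g ((1 : B) ⊗ₜ[R] e)))
    (fun φ g => natural_mkQ m N e φ g) (fun i : s => i.1.1) (fun i => i.1.2) hcov (fun i => ?_) B g
  letI : Algebra R Γ(G.left, i.1.1) := algU (G := G) i.1.1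
  haveI : Module.Flat R Γ(G.left, i.1.1) := flat_algU i.1.2
  exact mkQ_coord_eq_zero m (openPt i.1.2) p S z hz T hT N gens rfl hN e he

end Groth.Agent.GModLib41
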