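import Groth.Agent.GModLib41.Cover
import Mathlib.RingTheory.Flat.Basic

/-!
# Global functions against flat modules: natural families of values are global sections
-/

universe u

open CategoryTheory AlgebraicGeometry TopologicalSpace Opposite TensorProduct

namespace Groth.Agent.GModLib41

set_option linter.style.haveILetI false
set_option backward.isDefEq.respectTransparency false

variable {R : Type u} [CommRing R] {G : Over (Spec (CommRingCat.of R))}

/-- The global functions as an algebra over the base. -/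
noncomputable abbrev algTop : Algebra R Γ(G.left, ⊤) :=
  (((Scheme.ΓSpecIso (CommRingCat.of R)).inv ≫ G.hom.appTop).hom).toAlgebra

/-- The value of global functions at a point. -/
noncomputable def pullFn {B : Type u} [CommRing B] [Algebra R B] (g : VecGrp.pt R B ⟶ G) :
    letI := algTop (G := G); Γ(G.left, ⊤) →ₐ[R] B :=
  letI := algTop (G := G)
  AlgHom.mk ((g.left.appTop ≫ (Scheme.ΓSpecIso (CommRingCat.of B)).hom).hom) fun c => by
    show (Scheme.ΓSpecIso (CommRingCat.of B)).hom (g.left.appTop (G.hom.appTop ((Scheme.ΓSpecIso (CommRingCat.of R)).inv c))) = _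
    rw [← CommRingCat.comp_apply G.hom.appTop g.left.appTop, ← Scheme.Hom.comp_appTop, Over.w g]
    show (Scheme.ΓSpecIso (CommRingCat.of B)).hom
      ((Spec.map (CommRingCat.ofHom (algebraMap R B))).appTop ((Scheme.ΓSpecIso (CommRingCat.of R)).inv c)) = _
    rw [← CommRingCat.comp_apply (Spec.map (CommRingCat.ofHom (algebraMap R B))).appTop, Scheme.ΓSpecIso_naturality,
      CommRingCat.comp_apply, ← CommRingCat.comp_apply _ (Scheme.ΓSpecIso (CommRingCat.of R)).hom, Iso.inv_hom_id]
    rfl

theorem pullFn_ptMap {B B' : Type u} [CommRing B] [Algebra R B] [CommRing B'] [Algebra R B'] (φ : B →ₐ[R] B')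
    (g : VecGrp.pt R B ⟶ G) :
    letI := algTop (G := G); pullFn (VecGrp.ptMap φ ≫ g) = φ.comp (pullFn g) := by
  letI := algTop (G := G)
  refine AlgHom.ext fun f => ?_
  show (Scheme.ΓSpecIso (CommRingCat.of B')).hom
      ((Spec.map (CommRingCat.ofHom φ.toRingHom)).appTop (g.left.appTop f)) = _
  rw [← CommRingCat.comp_apply, Scheme.ΓSpecIso_naturality]
  rfl

theorem pullFn_openPt {U : G.left.Opens} (hU : IsAffineOpen U) (f : Γ(G.left, ⊤)) :
    letI := algTop (G := G); letI := algU (G := G) U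
    pullFn (openPt hU) f = G.left.presheaf.map (homOfLE le_top).op f := by
  show (Scheme.ΓSpecIso Γ(G.left, U)).hom (hU.fromSpec.appTop f) = _
  rw [← CommRingCat.comp_apply]
  congr 1
  congr 1
  have h := congrArg (fun p => Scheme.Hom.appTop p ≫ (Scheme.ΓSpecIso Γ(G.left, U)).hom) hU.fromSpec_toSpecΓ
  simp only [Scheme.Hom.comp_appTop, Scheme.toSpecΓ_appTop, Scheme.ΓSpecIso_naturality, Category.assoc] at h
  exact (cancel_epi _).mp h

theorem exists_overlap_cover [QuasiSeparated G.hom] {U V : G.left.Opens} (hU : IsAffineOpen U) (hV : IsAffineOpen V) :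
    ∃ (s : Finset G.left.affineOpens), (∀ w ∈ s, w.1 ≤ U ⊓ V) ∧ U ⊓ V ≤ ⨆ w : s, w.1.1 := by
  classical
  haveI : QuasiSeparatedSpace G.left := (quasiSeparated_iff_quasiSeparatedSpace G.hom).mp inferInstance
  have hc : IsCompact ((U ⊓ V : G.left.Opens) : Set G.left) :=
    QuasiSeparatedSpace.inter_isCompact _ _ U.isOpen hU.isCompact V.isOpen hV.isCompact
  obtain ⟨s, hs⟩ := hc.elim_finite_subcover
    (fun w : {w : G.left.affineOpens // w.1 ≤ U ⊓ V} => (w.1.1 : Set G.left)) (fun w => w.1.1.isOpen) (fun x hx => by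
      obtain ⟨W, hW, hxW, hle⟩ := exists_isAffineOpen_mem_and_subset (x := x) (U := U ⊓ V) hx
      exact Set.mem_iUnion.2 ⟨⟨⟨W, hW⟩, hle⟩, hxW⟩)
  refine ⟨s.image Subtype.val, fun w hw => ?_, fun x hx => ?_⟩
  · obtain ⟨w', -, rfl⟩ := Finset.mem_image.1 hw
    exact w'.2
  · obtain ⟨w, hw, hxw⟩ := Set.mem_iUnion₂.1 (hs hx)
    exact Opens.mem_iSup.2 ⟨⟨w.1, Finset.mem_image_of_mem _ hw⟩, hxw⟩

variable [QuasiCompact G.hom] [QuasiSeparated G.hom] {E : Type u} [AddCommGroup E] [Module R E] [Module.Flat R E]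

/-- Global functions tensored with a flat module are the natural families of values. -/
theorem existsUnique_repr
    (F : ∀ (B : Type u) [CommRing B] [Algebra R B], (VecGrp.pt R B ⟶ G) → B ⊗[R] E)
    (hF : ∀ {B B' : Type u} [CommRing B] [Algebra R B] [CommRing B'] [Algebra R B'] (φ : B →ₐ[R] B')
      (g : VecGrp.pt R B ⟶ G), VecGrp.Wmap φ (F B g) = F B' (VecGrp.ptMap φ ≫ g)) :
    letI := algTop (G := G)
    ∃! z : Γ(G.left, ⊤) ⊗[R] E, ∀ (B : Type u) [CommRing B] [Algebra R B] (g : VecGrp.pt R B ⟶ G),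
      (pullFn g).toLinearMap.rTensor E z = F B g := by
  classical
  letI := algTop (G := G)
  obtain ⟨s, hcov⟩ := exists_finite_affine_cover (G := G)
  let U : s → G.left.Opens := fun i => i.1.1
  have hU : ∀ i, IsAffineOpen (U i) := fun i => i.1.2
  letI algs : ∀ i : s, Algebra R Γ(G.left, U i) := fun i => algU (G := G) (U i)
  choose W hW hWcov using fun p : s × s => exists_overlap_cover (hU p.1) (hU p.2)
  let K := Σ p : s × s, W p
  let V : K → G.left.Opens := fun k => k.2.1.1
  have hV : ∀ k, IsAffineOpen (V k) := fun k => k.2.1.2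
  have hV1 : ∀ k : K, V k ≤ U k.1.1 := fun k => (hW k.1 _ k.2.2).trans inf_le_left
  have hV2 : ∀ k : K, V k ≤ U k.1.2 := fun k => (hW k.1 _ k.2.2).trans inf_le_right
  letI algs' : ∀ k : K, Algebra R Γ(G.left, V k) := fun k => algU (G := G) (V k)
  let a : Γ(G.left, ⊤) →ₗ[R] ∀ i : s, Γ(G.left, U i) :=
    LinearMap.pi fun i => (pullFn (openPt (hU i))).toLinearMap
  let b : (∀ i : s, Γ(G.left, U i)) →ₗ[R] ∀ k : K, Γ(G.left, V k) :=
    LinearMap.pi fun k => (resAlg (hV1 k)).toLinearMap ∘ₗ LinearMap.proj k.1.1 -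
      (resAlg (hV2 k)).toLinearMap ∘ₗ LinearMap.proj k.1.2
  have ha : Function.Injective a := by
    intro x y h
    refine G.left.sheaf.eq_of_locally_eq' U ⊤ (fun i => homOfLE le_top) hcov.ge x y fun i => ?_
    have h1 := congrFun h i
    simp only [a, LinearMap.pi_apply, AlgHom.toLinearMap_apply] at h1
    rw [pullFn_openPt, pullFn_openPt] at h1
    exact h1
  have hab : Function.Exact a b := by
    intro f
    constructor
    · intro h
      have hcomp : TopCat.Presheaf.IsCompatible G.left.sheaf.1 U f := by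
        intro i j
        refine G.left.sheaf.eq_of_locally_eq' (fun w : W (i, j) => w.1.1) _
          (fun w => homOfLE (hW (i, j) _ w.2)) (hWcov (i, j)) _ _ fun w => ?_
        have h1 := congrFun h ⟨(i, j), w⟩
        simp only [b, LinearMap.pi_apply, LinearMap.sub_apply, LinearMap.comp_apply, LinearMap.proj_apply,
          AlgHom.toLinearMap_apply, Pi.zero_apply, sub_eq_zero] at h1
        refine Eq.trans ?_ (h1.trans ?_)
        · exact (congr($(G.left.presheaf.map_comp _ _) (f i))).symm
        · exact congr($(G.left.presheaf.map_comp _ _) (f j))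
      obtain ⟨x, hx, -⟩ := G.left.sheaf.existsUnique_gluing' U ⊤ (fun i => homOfLE le_top) hcov.ge f hcomp
      refine ⟨x, funext fun i => ?_⟩
      simp only [a, LinearMap.pi_apply, AlgHom.toLinearMap_apply]
      rw [pullFn_openPt]
      exact hx i
    · rintro ⟨x, rfl⟩
      funext k
      simp only [a, b, LinearMap.pi_apply, LinearMap.sub_apply, LinearMap.comp_apply, LinearMap.proj_apply,
        AlgHom.toLinearMap_apply, Pi.zero_apply, sub_eq_zero]
      rw [← AlgHom.comp_apply, ← AlgHom.comp_apply, ← pullFn_ptMap, ← pullFn_ptMap,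
        ptMap_resAlg (hU _) (hV k), ptMap_resAlg (hU _) (hV k)]
  have hext : ∀ {ι : Type u} [Fintype ι] {M : ι → Type u} [∀ i, AddCommGroup (M i)] [∀ i, Module R (M i)]
      (y : (∀ i, M i) ⊗[R] E), (∀ i, (LinearMap.proj (φ := M) i).rTensor E y = 0) → y = 0 := by
    intro ι _ M _ _ y hy
    have hid : (LinearMap.id : (∀ i, M i) →ₗ[R] _) = ∑ i, LinearMap.single R M i ∘ₗ LinearMap.proj i := by
      refine LinearMap.ext fun f => ?_
      simp [LinearMap.sum_apply, Finset.univ_sum_single]
    rw [← LinearMap.rTensor_id_apply E (∀ i, M i) y, hid, ← LinearMap.coe_rTensorHom, map_sum,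
      LinearMap.sum_apply]
    simp [LinearMap.rTensor_comp, hy]
  let y : (∀ i : s, Γ(G.left, U i)) ⊗[R] E :=
    ∑ i, (LinearMap.single R (fun i : s => ↑Γ(G.left, U i)) i).rTensor E (F _ (openPt (hU i)))
  have hy : ∀ i, (LinearMap.proj (φ := fun i : s => ↑Γ(G.left, U i)) i).rTensor E y = F _ (openPt (hU i)) := by
    intro i
    rw [map_sum, Finset.sum_eq_single i]
    · rw [← LinearMap.comp_apply, ← LinearMap.rTensor_comp, LinearMap.proj_comp_single_same,
        LinearMap.rTensor_id_apply]
    · intro j _ hj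
      rw [← LinearMap.comp_apply, ← LinearMap.rTensor_comp, LinearMap.proj_comp_single_ne R _ _ _ (Ne.symm hj),
        LinearMap.rTensor_zero, LinearMap.zero_apply]
    · simp
  have hby : b.rTensor E y = 0 := by
    refine hext _ fun k => ?_
    rw [← LinearMap.comp_apply, ← LinearMap.rTensor_comp]
    show ((resAlg (hV1 k)).toLinearMap ∘ₗ LinearMap.proj k.1.1 -
      (resAlg (hV2 k)).toLinearMap ∘ₗ LinearMap.proj k.1.2).rTensor E y = 0
    rw [LinearMap.rTensor_sub, LinearMap.sub_apply, LinearMap.rTensor_comp, LinearMap.rTensor_comp,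
      LinearMap.comp_apply, LinearMap.comp_apply, hy, hy, sub_eq_zero]
    refine (hF (resAlg (hV1 k)) (openPt (hU k.1.1))).trans ?_
    rw [ptMap_resAlg (hU _) (hV k)]
    refine Eq.trans ?_ (hF (resAlg (hV2 k)) (openPt (hU k.1.2))).symm
    rw [ptMap_resAlg (hU _) (hV k)]
  obtain ⟨z, hz⟩ := ((Module.Flat.rTensor_exact E hab) y).1 hby
  have hzi : ∀ i, (pullFn (openPt (hU i))).toLinearMap.rTensor E z = F _ (openPt (hU i)) := fun i => by
    rw [← hy i, ← hz, ← LinearMap.comp_apply, ← LinearMap.rTensor_comp]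
    rfl
  refine ⟨z, fun B _ _ g => sub_eq_zero.1 ?_, fun z' hz' => ?_⟩
  · refine family_eq_zero (fun B _ _ g => (pullFn g).toLinearMap.rTensor E z - F B g) (fun {B B'} _ _ _ _ φ g => ?_)
      U hU hcov (fun i => sub_eq_zero.2 (hzi i)) B g
    rw [map_sub, hF, pullFn_ptMap]
    congr 1
    show φ.toLinearMap.rTensor E _ = _
    rw [← LinearMap.comp_apply, ← LinearMap.rTensor_comp]
    rfl
  · refine Module.Flat.rTensor_preserves_injective_linearMap a ha (M := E) ?_
    refine sub_eq_zero.1 (hext _ fun i => ?_)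
    rw [map_sub, ← LinearMap.comp_apply, ← LinearMap.comp_apply, ← LinearMap.rTensor_comp, sub_eq_zero]
    show (pullFn (openPt (hU i))).toLinearMap.rTensor E z' = (pullFn (openPt (hU i))).toLinearMap.rTensor E z
    rw [hz', hzi]

end Groth.Agent.GModLib41
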